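import Mathlib
import Groth.Prelude.Def_Coh
import Groth.Prelude.Def_CohB1
import Groth.Prelude.Def_Twist2
import Groth.Agent.H67.FinGeoLocal
import Groth.Agent.H67.DevGen2
import Groth.Agent.H96.S0002.ProjFormulaTwist
import Groth.Agent.H6.HomShQC
import Groth.Agent.H44.PullbackAffine
import Groth.Agent.H18.GrTildeQC
import Groth.Agent.S0012
import Groth.Agent.Lead.Coh.LocTop

/-!
# (VAN) of the S0002 chain: local vanishing of the higher cohomology of `j^* O(m)`

`π : Z' ⟶ Y` proper, `j : Z' ⟶ P^N_A` a closed immersion over `Spec A`, `V ⊆ Y` affine open: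
for `m ≫ 0`, `H^{q+1}(π⁻¹V, j^* O(m)) = 0`.
-/

namespace Groth.Agent.H88.Van

open CategoryTheory Opposite Limits TopologicalSpace Abelian AlgebraicGeometry
open Groth.Agent.Lead.Coh

universe u

/-- The shape of Serre vanishing on `P^N_B` (helper86's `H86.Serre.serre_vanishing`). -/
def SerreVan : Prop :=
  ∀ (N : ℕ) (B : Type u) [CommRing B] [IsNoetherianRing B]
    (F : (CohB1.ProjSpace N B).Modules), Coh.IsCoh F →
    ∃ m₀ : ℤ, ∀ m : ℤ, m₀ ≤ m → ∀ q : ℕ, 0 < q →
      Subsingleton (Coh.HH (CohB1.ProjSpace N B)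
        (Twist.twistBy (CohB1.polyGrading N B) F m) q)

/-- Vanishing of `Coh.HHon` gives `HVanish`. -/
theorem hVanish_of_subsingleton_HHon {X : Scheme.{u}} (M : X.Modules) (W : X.Opens) (q : ℕ)
    (h : Subsingleton (Coh.HHon X M W q)) : HVanish (T := X) (Coh.toAb M) q W := by
  intro x
  obtain ⟨e⟩ := nonempty_addEquiv_HHon_EM M W q
  have hx : e.symm x = e.symm 0 := Subsingleton.elim _ _
  exact e.symm.injective hx

/-- Cohomology vanishing is invariant under isomorphisms of modules. -/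
theorem subsingleton_HH_of_iso {X : Scheme.{u}} {M M' : X.Modules} (e : M ≅ M') (p : ℕ)
    (h : Subsingleton (Coh.HH X M p)) : Subsingleton (Coh.HH X M' p) := by
  let E := (Sheaf.functorH (Opens.grothendieckTopology X) p).mapIso
    ((SheafOfModules.toSheaf X.ringCatSheaf).mapIso e)
  exact @Equiv.subsingleton _ _ E.addCommGroupIsoToAddEquiv.symm.toEquiv h

/-- **(VAN)**: local vanishing for the Chow cover. -/
theorem van (hSV : SerreVan.{u}) (A : Type u) [CommRing A] (Y Z' : Scheme.{u})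
    [IsLocallyNoetherian Y] (g : Y ⟶ Spec (CommRingCat.of A)) (π : Z' ⟶ Y) [IsProper π] (N : ℕ)
    (j : Z' ⟶ CohB1.ProjSpace N A) [IsClosedImmersion j]
    (hj : j ≫ CohB1.ProjSpace.toSpec N A = π ≫ g) (V : Y.Opens) (hV : IsAffineOpen V) :
    ∃ m₀ : ℕ, ∀ m : ℕ, m₀ ≤ m → ∀ q : ℕ,
      HVanish (T := Z')
        (Coh.toAb ((Scheme.Modules.pullback j).obj (Twist.twistProjSpace N A (m : ℤ))))
        (q + 1) (π ⁻¹ᵁ V) := by
  obtain ⟨jV, hjV, -, hiso⟩ := Groth.Agent.H67.Fin.exists_local_data A g π N j hj V hV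
  haveI : IsClosedImmersion jV := hjV
  haveI : IsNoetherianRing Γ(Y, V) := IsLocallyNoetherian.component_noetherian ⟨V, hV⟩
  -- the coherent module `jV_* O`
  have hF : Coh.IsCoh ((Scheme.Modules.pushforward jV).obj
      (Coh.structureModule ((π ⁻¹ᵁ V : Z'.Opens) : Scheme.{u}))) :=
    Groth.Agent.H67.Dev.isCoh_push_closed jV (Groth.Agent.H6.HomSh.isCoh_structureModule _)
  obtain ⟨m₀, hm₀⟩ := hSV N Γ(Y, V) _ hF
  refine ⟨m₀.toNat, fun m hm q => ?_⟩
  apply hVanish_of_subsingleton_HHon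
  -- Serre vanishing for `(jV_* O)(m)`
  have h1 := hm₀ (m : ℤ) (by omega) (q + 1) (by omega)
  -- projection formula
  let jV' : ((π ⁻¹ᵁ V : Z'.Opens) : Scheme.{u}) ⟶ Proj (CohB1.polyGrading N Γ(Y, V)) := jV
  haveI : IsClosedImmersion jV' := hjV
  have h2 : Subsingleton (Coh.HH (CohB1.ProjSpace N Γ(Y, V))
      ((Scheme.Modules.pushforward jV).obj ((Scheme.Modules.pullback jV).obj
        (Twist.twist (CohB1.polyGrading N Γ(Y, V)) (m : ℤ)))) (q + 1)) :=
    subsingleton_HH_of_iso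
      (Groth.Agent.H96.PF.twistIso (CohB1.polyGrading N Γ(Y, V)) jV' (m : ℤ)) (q + 1) h1
  -- affine pushforward
  haveI : (Twist.twistProjSpace N Γ(Y, V) (m : ℤ)).IsQuasicoherent :=
    Groth.Agent.H18.tilde_isQuasicoherent (CohB1.polyGrading N Γ(Y, V))
      (CohB1.polyGrading N Γ(Y, V)) (m : ℤ)
  haveI : Coh.IsQCoh ((Scheme.Modules.pullback jV).obj (Twist.twistProjSpace N Γ(Y, V) (m : ℤ))) :=
    inferInstance
  obtain ⟨e3⟩ := Groth.Agent.S0012.result jV
    ((Scheme.Modules.pullback jV).obj (Twist.twistProjSpace N Γ(Y, V) (m : ℤ))) (q + 1)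
  have h3 : Subsingleton (Coh.HH ((π ⁻¹ᵁ V : Z'.Opens) : Scheme.{u})
      ((Scheme.Modules.pullback jV).obj (Twist.twistProjSpace N Γ(Y, V) (m : ℤ))) (q + 1)) :=
    @Equiv.subsingleton _ _ e3.toEquiv h2
  -- the identification of the restriction
  obtain ⟨e4⟩ := hiso m
  have e5 := (Scheme.Modules.restrictFunctorIsoPullback (π ⁻¹ᵁ V).ι).app
    ((Scheme.Modules.pullback j).obj (Twist.twistProjSpace N A (m : ℤ)))
  exact subsingleton_HH_of_iso (e5 ≪≫ e4).symm (q + 1) h3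

end Groth.Agent.H88.Van
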